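import Cfsg.Agent.Lib.Char.FHT.Norm
import Cfsg.Agent.S0033

/-!
# Groups of odd order covered by Frobenius kernels of coprime orders
-/

set_option linter.style.haveILetI false
set_option linter.unusedSectionVars false
set_option autoImplicit false

namespace Cfsg.Agent.Char.FHT

open scoped ComplexConjugate Classical
open Cfsg

universe u v

/-- The numerical contradiction. -/
theorem arith {ι : Type v} [Fintype ι] [Nonempty ι] (e w : ι → ℕ) (c : ι → ℝ)
    (B : ι → Finset ι) (δ : ℝ) (he : ∀ i, Odd (e i) ∧ 3 ≤ e i)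
    (hw : ∀ i, Even (w i) ∧ 2 ≤ w i)
    (hcop : ∀ i j, i ≠ j → Nat.Coprime (e i * w i + 1) (e j * w j + 1))
    (hc : ∀ i, 0 ≤ c i ∧ c i ≤ 1 / (e i : ℝ)) (hiB : ∀ i, i ∉ B i)
    (hB : ∀ i, ∑ j ∈ B i, w j + 1 ≤ e i)
    (hsum : ∑ i, c i = 1 - δ) (hδ : 0 < δ)
    (hmass : ∀ i, δ + (1 - (e i : ℝ) / ((e i * w i + 1 : ℕ) : ℝ)) +
      ∑ j ∈ Finset.univ \ insert i (B i),
        (1 - 1 / ((e j * w j + 1 : ℕ) : ℝ)) / (e j : ℝ) ≤ 1) : False := by
  obtain ⟨i, -, hmin⟩ := Finset.exists_min_image Finset.univ e Finset.univ_nonempty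
  have hmin' : ∀ j, e i ≤ e j := fun j => hmin j (Finset.mem_univ j)
  have hne : ∀ j, j ≠ i → e j * w j + 1 ≠ e i * w i + 1 := by
    intro j hj h
    have := hcop j i hj
    rw [h, Nat.coprime_self] at this
    have := Nat.mul_le_mul (he i).2 (hw i).2
    omega
  have step : ∀ A S : ℝ, 1 ≤ A →
      (∀ j, j ∉ insert i (B i) → A ≤ ((e j * w j + 1 : ℕ) : ℝ)) →
      (∑ j ∈ B i, 1 / (e j : ℝ) ≤ S) →
      (1 - 1 / A) * (1 - 1 / (e i : ℝ) - S) ≤ (e i : ℝ) / ((e i * w i + 1 : ℕ) : ℝ) := by
    intro A S hA hAle hS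
    have h1 : (1 - 1 / A) * ∑ j ∈ Finset.univ \ insert i (B i), c j ≤
        ∑ j ∈ Finset.univ \ insert i (B i),
          (1 - 1 / ((e j * w j + 1 : ℕ) : ℝ)) / (e j : ℝ) := by
      rw [Finset.mul_sum]
      refine Finset.sum_le_sum fun j hj => ?_
      rw [Finset.mem_sdiff] at hj
      have h2 : 1 / ((e j * w j + 1 : ℕ) : ℝ) ≤ 1 / A :=
        one_div_le_one_div_of_le (by linarith) (hAle j hj.2)
      have h3 : (0 : ℝ) ≤ 1 - 1 / A := by
        rw [sub_nonneg, div_le_one (by linarith)]; exact hA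
      calc (1 - 1 / A) * c j ≤ (1 - 1 / A) * (1 / (e j : ℝ)) :=
            mul_le_mul_of_nonneg_left (hc j).2 h3
        _ ≤ (1 - 1 / ((e j * w j + 1 : ℕ) : ℝ)) * (1 / (e j : ℝ)) :=
            mul_le_mul_of_nonneg_right (by linarith) (by positivity)
        _ = _ := by rw [mul_one_div]
    have h4 : ∑ j ∈ insert i (B i), c j ≤ 1 / (e i : ℝ) + S := by
      rw [Finset.sum_insert (hiB i)]
      exact add_le_add (hc i).2 ((Finset.sum_le_sum fun j _ => (hc j).2).trans hS)
    have h5 : ∑ j ∈ Finset.univ \ insert i (B i), c j + ∑ j ∈ insert i (B i), c j = 1 - δ := by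
      rw [Finset.sum_sdiff (Finset.subset_univ _), hsum]
    have h6 : (0 : ℝ) ≤ 1 - 1 / A := by
      rw [sub_nonneg, div_le_one (by linarith)]; exact hA
    have h7 : (1 - 1 / A) * (1 - δ - (1 / (e i : ℝ) + S)) ≤
        (1 - 1 / A) * ∑ j ∈ Finset.univ \ insert i (B i), c j :=
      mul_le_mul_of_nonneg_left (by linarith) h6
    have h8 : (0 : ℝ) < 1 / A * δ := by positivity
    have h9 := hmass i
    nlinarith
  obtain ⟨hiodd, hi3⟩ := he i
  obtain ⟨hweven, hw2⟩ := hw i
  have he3 : (3 : ℝ) ≤ (e i : ℝ) := by exact_mod_cast hi3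
  have hepos : (0 : ℝ) < (e i : ℝ) := by linarith
  have hsumB : ∀ S : ℝ, 0 < S → (∀ j ∈ B i, 1 / (e j : ℝ) ≤ (w j : ℝ) / S) →
      ∑ j ∈ B i, 1 / (e j : ℝ) ≤ ((e i : ℝ) - 1) / S := by
    intro S hS h
    refine (Finset.sum_le_sum h).trans ?_
    rw [← Finset.sum_div]
    refine div_le_div_of_nonneg_right ?_ hS.le
    have := hB i
    have : ((∑ j ∈ B i, w j : ℕ) : ℝ) + 1 ≤ (e i : ℝ) := by exact_mod_cast this
    push_cast at this
    linarith
  rcases Nat.lt_or_ge (w i) 4 with hw4 | hw4
  · have hwi : w i = 2 := by obtain ⟨k, hk⟩ := hweven; omega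
    have hgap : ∀ j, j ≠ i → (e j = e i ∧ 4 ≤ w j) ∨ e i + 2 ≤ e j := by
      intro j hj
      obtain ⟨k, hk⟩ := (hw j).1
      obtain ⟨l, hl⟩ := (he j).1
      obtain ⟨m, hm⟩ := hiodd
      have := hmin' j
      have := (hw j).2
      rcases eq_or_ne (e j) (e i) with heq | hneq
      · left
        refine ⟨heq, ?_⟩
        by_contra h
        have : w j = 2 := by omega
        exact hne j hj (by rw [heq, this, hwi])
      · right; omega
    have hbig : ∀ j, j ≠ i → 2 * e i + 5 ≤ e j * w j + 1 := by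
      intro j hj
      rcases hgap j hj with ⟨h1, h2⟩ | h
      · rw [h1]; have := Nat.mul_le_mul (le_refl (e i)) h2; omega
      · have := Nat.mul_le_mul h (hw j).2; omega
    rcases Nat.lt_or_ge (e i) 5 with he5 | he5
    · have hei : e i = 3 := by obtain ⟨m, hm⟩ := hiodd; omega
      have hBw : ∀ j ∈ B i, w j = 2 := by
        intro j hj
        have h1 := Finset.single_le_sum (f := w) (fun _ _ => Nat.zero_le _) hj
        have := hB i
        have := (hw j).2
        omega
      have hj5 : ∀ j ∈ B i, 5 ≤ e j := by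
        intro j hj
        rcases hgap j (fun h => hiB i (h ▸ hj)) with ⟨h1, h2⟩ | h
        · rw [hBw j hj] at h2; omega
        · omega
      have hcard : (B i).card ≤ 1 := by
        have h := hB i
        rw [Finset.sum_congr rfl hBw, Finset.sum_const, smul_eq_mul] at h
        omega
      have hA11 : ∀ j, j ∉ insert i (B i) → (11 : ℝ) ≤ ((e j * w j + 1 : ℕ) : ℝ) := by
        intro j hj
        have := hbig j (fun h => hj (h ▸ Finset.mem_insert_self _ _))
        exact_mod_cast (show 11 ≤ e j * w j + 1 by omega)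
      rcases Finset.eq_empty_or_nonempty (B i) with hB0 | ⟨b, hb⟩
      · have := step 11 0 (by norm_num) hA11 (by simp [hB0])
        rw [hei, hwi] at this
        norm_num at this
      · have hBeq : B i = {b} := Finset.eq_singleton_iff_unique_mem.mpr
          ⟨hb, fun x hx => Finset.card_le_one.mp hcard x hx b hb⟩
        have hS : ∀ d : ℝ, 0 < d → d ≤ (e b : ℝ) → ∑ j ∈ B i, 1 / (e j : ℝ) ≤ 1 / d := by
          intro d hd hde
          rw [hBeq, Finset.sum_singleton]
          exact one_div_le_one_div_of_le hd hde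
        have hb5 := hj5 b hb
        rcases Nat.lt_or_ge (e b) 7 with hb7 | hb7
        · have heb : e b = 5 := by obtain ⟨m, hm⟩ := (he b).1; omega
          have hA13 : ∀ j, j ∉ insert i (B i) → (13 : ℝ) ≤ ((e j * w j + 1 : ℕ) : ℝ) := by
            intro j hj
            have hji : j ≠ i := fun h => hj (h ▸ Finset.mem_insert_self _ _)
            have hjb : j ≠ b := fun h => hj (h ▸ Finset.mem_insert_of_mem hb)
            have h1 := hbig j hji
            have h2 : e j * w j + 1 ≠ 11 := by
              intro h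
              have h3 := hcop j b hjb
              rw [h, heb, hBw b hb] at h3
              norm_num at h3
            obtain ⟨k, hk⟩ := (hw j).1
            obtain ⟨t, ht⟩ : Even (e j * w j) := (hw j).1.mul_left _
            exact_mod_cast (show 13 ≤ e j * w j + 1 by omega)
          have := step 13 (1 / 5) (by norm_num) hA13
            (hS 5 (by norm_num) (by rw [heb]; norm_num))
          rw [hei, hwi] at this
          norm_num at this
        · have := step 11 (1 / 7) (by norm_num) hA11
            (hS 7 (by norm_num) (by exact_mod_cast hb7))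
          rw [hei, hwi] at this
          norm_num at this
    · have he5' : (5 : ℝ) ≤ (e i : ℝ) := by exact_mod_cast he5
      have hS : ∑ j ∈ B i, 1 / (e j : ℝ) ≤ ((e i : ℝ) - 1) / (2 * ((e i : ℝ) + 2)) := by
        refine hsumB _ (by linarith) fun j hj => ?_
        have hjpos : (0 : ℝ) < (e j : ℝ) := by
          exact_mod_cast Nat.lt_of_lt_of_le (show 0 < 3 by norm_num) (he j).2
        rw [div_le_div_iff₀ hjpos (by linarith), one_mul]
        rcases hgap j (fun h => hiB i (h ▸ hj)) with ⟨h1, h2⟩ | h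
        · rw [h1]
          have : (4 : ℝ) ≤ (w j : ℝ) := by exact_mod_cast h2
          nlinarith
        · have : (2 : ℝ) ≤ (w j : ℝ) := by exact_mod_cast (hw j).2
          have : (e i : ℝ) + 2 ≤ (e j : ℝ) := by exact_mod_cast h
          nlinarith
      have := step (2 * (e i : ℝ) + 5) _ (by linarith) (fun j hj => by
        exact_mod_cast hbig j (fun h => hj (h ▸ Finset.mem_insert_self _ _))) hS
      rw [hwi] at this
      push_cast at this
      have key : 0 < (e i : ℝ) ^ 2 * 2 - 5 * (e i : ℝ) - 4 := by nlinarith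
      have e1 : (1 - 1 / (2 * (e i : ℝ) + 5)) *
          (1 - 1 / (e i : ℝ) - ((e i : ℝ) - 1) / (2 * ((e i : ℝ) + 2))) =
          ((e i : ℝ) ^ 2 + 3 * (e i : ℝ) - 4) / ((e i : ℝ) * (2 * (e i : ℝ) + 5)) := by
        field_simp
        ring
      rw [e1, div_le_div_iff₀ (by positivity) (by positivity)] at this
      nlinarith
  · have hS : ∑ j ∈ B i, 1 / (e j : ℝ) ≤ ((e i : ℝ) - 1) / (2 * (e i : ℝ)) := by
      refine hsumB _ (by linarith) fun j _ => ?_
      have : (2 : ℝ) ≤ (w j : ℝ) := by exact_mod_cast (hw j).2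
      have : (e i : ℝ) ≤ (e j : ℝ) := by exact_mod_cast hmin' j
      rw [div_le_div_iff₀ (by linarith) (by linarith), one_mul]
      nlinarith
    have := step 7 _ (by norm_num) (fun j _ => by
      exact_mod_cast (show 7 ≤ e j * w j + 1 by
        have := Nat.mul_le_mul (he j).2 (hw j).2; omega)) hS
    have h4 : (4 : ℝ) * (e i : ℝ) + 1 ≤ ((e i * w i + 1 : ℕ) : ℝ) := by
      have : (4 : ℝ) ≤ (w i : ℝ) := by exact_mod_cast hw4
      push_cast
      nlinarith
    have h5 : (e i : ℝ) / ((e i * w i + 1 : ℕ) : ℝ) ≤ 1 / 4 := by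
      rw [div_le_div_iff₀ (by linarith) (by norm_num)]
      linarith
    have e1 : (1 - 1 / 7) * (1 - 1 / (e i : ℝ) - ((e i : ℝ) - 1) / (2 * (e i : ℝ))) =
        3 * ((e i : ℝ) - 1) / (7 * (e i : ℝ)) := by
      field_simp
      ring
    rw [e1] at this
    have h6 : 3 * ((e i : ℝ) - 1) / (7 * (e i : ℝ)) ≤ 1 / 4 := this.trans h5
    rw [div_le_div_iff₀ (by linarith) (by norm_num)] at h6
    linarith

variable {G : Type u} [Group G] [Fintype G]

/-- A kernel with Frobenius normaliser is not perfect. -/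
theorem exists_lin {H : Subgroup G} (h1 : H ≠ ⊥) (hlt : H < Subgroup.normalizer (H : Set G))
    (hC : ∀ h ∈ H, h ≠ 1 → Subgroup.centralizer ({h} : Set G) ≤ H) :
    ∃ a : H →* ℂˣ, a ≠ 1 := by
  obtain ⟨x, hxN, hxH⟩ := SetLike.exists_of_lt hlt
  have hx1 : x ≠ 1 := fun h => hxH (h ▸ H.one_mem)
  obtain ⟨p, hp, hpd⟩ := Nat.exists_prime_and_dvd (fun h => hx1 (orderOf_eq_one_iff.mp h))
  haveI := Fact.mk hp
  obtain ⟨z, hz⟩ := exists_prime_orderOf_dvd_card' (G := Subgroup.zpowers x) p
    (by rwa [Nat.card_zpowers])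
  have hz1 : (z : G) ≠ 1 := by
    intro h
    rw [OneMemClass.coe_eq_one] at h
    rw [h, orderOf_one] at hz
    exact hp.ne_one hz.symm
  have hzN : (z : G) ∈ Subgroup.normalizer (H : Set G) :=
    (Subgroup.zpowers_le.mpr hxN) z.2
  have hzH : (z : G) ∉ H := by
    intro h
    refine hxH (hC _ h hz1 (Subgroup.mem_centralizer_singleton_iff.mpr ?_))
    obtain ⟨k, hk⟩ := Subgroup.mem_zpowers_iff.mp z.2
    rw [← hk]
    exact ((Commute.refl x).zpow_right k).eq
  let φ : H ≃* H := Subgroup.normalizerMonoidHom H ⟨z, hzN⟩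
  have hφ : ∀ h : H, ((φ h : H) : G) = (z : G) * h * (z : G)⁻¹ := fun h => rfl
  have hfpf : MonoidHom.FixedPointFree (φ : H →* H) := by
    intro h hh
    by_contra hne
    refine hzH (hC h h.2 (fun e => hne (Subtype.ext e))
      (Subgroup.mem_centralizer_singleton_iff.mpr ?_))
    have := congrArg Subtype.val hh
    rw [show ((φ : H →* H) h : G) = (z : G) * h * (z : G)⁻¹ from hφ h, mul_inv_eq_iff_eq_mul] at this
    exact this
  haveI : Nontrivial H := (Subgroup.nontrivial_iff_ne_bot H).mpr h1
  have hord : orderOf φ = p := by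
    refine orderOf_eq_prime ?_ ?_
    · show (Subgroup.normalizerMonoidHom H ⟨z, hzN⟩) ^ p = 1
      have hzp : (z : G) ^ p = 1 := by
        rw [← SubmonoidClass.coe_pow, ← hz, pow_orderOf_eq_one, Subgroup.coe_one]
      rw [← map_pow, show (⟨z, hzN⟩ : Subgroup.normalizer (H : Set G)) ^ p = 1 from
        Subtype.ext hzp, map_one]
    · intro h
      obtain ⟨y, hy⟩ := exists_ne (1 : H)
      exact hy (hfpf y (by show φ y = y; rw [h]; rfl))
  haveI : Group.IsNilpotent H := Cfsg.Agent.S0033.result φ hfpf p hp hord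
  by_contra hcon
  push Not at hcon
  haveI : Subsingleton (H →* ℂˣ) := ⟨fun a b => (hcon a).trans (hcon b).symm⟩
  have hcard : Nat.card (Abelianization H) = 1 := by
    haveI : Finite (Abelianization H) := inferInstanceAs (Finite (H ⧸ commutator H))
    haveI : NeZero (Monoid.exponent (Abelianization H) : ℂ) :=
      ⟨Nat.cast_ne_zero.mpr Monoid.exponent_ne_zero_of_finite⟩
    rw [← CommGroup.card_monoidHom_of_hasEnoughRootsOfUnity (Abelianization H) ℂ,
      ← Nat.card_congr Abelianization.lift]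
    exact Nat.card_of_subsingleton 1
  have hlt' := Group.IsSolvable.commutator_lt_top_of_nontrivial H
  exact hlt'.ne (Subgroup.index_eq_one.mp hcard)

variable {ι : Type v} [Fintype ι]

theorem card_conj_mem {H : Subgroup G} (hTI : Cfsg.IsTISubset (H : Set G)) {y : G} (hy : y ≠ 1)
    {x₀ : G} (hx₀ : x₀⁻¹ * y * x₀ ∈ H) :
    (Finset.univ.filter fun x : G => x⁻¹ * y * x ∈ H).card =
      Nat.card (Subgroup.normalizer (H : Set G)) := by
  rw [← Fintype.card_subtype, ← Nat.card_eq_fintype_card]
  have key : ∀ x, x⁻¹ * y * x ∈ H ↔ x₀⁻¹ * x ∈ Subgroup.normalizer (H : Set G) := by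
    intro x
    have e : x⁻¹ * y * x = (x⁻¹ * x₀) * (x₀⁻¹ * y * x₀) * (x⁻¹ * x₀)⁻¹ := by group
    constructor
    · intro h
      rw [← inv_mem_iff, mul_inv_rev, inv_inv]
      by_contra hn
      exact hy ((conj_eq_one_iff (a := x₀⁻¹) (b := y)).mp
        (by simpa using hTI (x⁻¹ * x₀) hn _ hx₀ (by rwa [← e])))
    · intro h
      rw [e]
      refine ((Subgroup.mem_normalizer_iff.mp ?_) _).mp hx₀
      rw [← inv_mem_iff, mul_inv_rev, inv_inv]
      exact h
  refine Nat.card_congr
    { toFun := fun x => ⟨x₀⁻¹ * x.1, (key x.1).mp x.2⟩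
      invFun := fun n => ⟨x₀ * (n : G), (key _).mpr (by simp)⟩
      left_inv := fun x => by simp
      right_inv := fun n => by simp }

/-- A class function summed along the covering by conjugates of the kernels. -/
theorem sum_cover (H : ι → Subgroup G) (hTI : ∀ i, Cfsg.IsTISubset (H i : Set G))
    (hap : ∀ i j, i ≠ j → Apart (H i) (H j))
    (hcover : ∀ y : G, y ≠ 1 → ∃ i, ∃ x : G, x * y * x⁻¹ ∈ H i)
    (F : G → ℝ) (hF : ∀ x y : G, F (x * y * x⁻¹) = F y) :
    ∑ y, F y = F 1 + ∑ i, (Nat.card G : ℝ) / (Nat.card (Subgroup.normalizer (H i : Set G)) : ℝ) *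
      ∑ h : H i, if h = 1 then 0 else F h := by
  have hpart : ∀ i, (Nat.card G : ℝ) * (∑ h : H i, if h = 1 then 0 else F h) =
      ∑ y : G, if y = 1 then 0 else
        F y * ((Finset.univ.filter fun x : G => x⁻¹ * y * x ∈ H i).card : ℝ) := by
    intro i
    have h1 : ∀ x : G, ∑ y : G, (if y = 1 then 0 else if x⁻¹ * y * x ∈ H i then F y else 0) =
        ∑ h : H i, if h = 1 then 0 else F h := by
      intro x
      rw [← Fintype.sum_equiv (MulAut.conj x).toEquiv
        (fun z => if z = 1 then 0 else if z ∈ H i then F z else 0) _ (fun z => by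
          simp only [MulEquiv.toEquiv_eq_coe, MulEquiv.coe_toEquiv, MulAut.conj_apply,
            conj_eq_one_iff, hF]
          congr 2
          group),
        ← Finset.sum_subset (Finset.subset_univ (Finset.univ.filter fun z : G => z ∈ H i)),
        Finset.sum_subtype (Finset.univ.filter fun z : G => z ∈ H i) (p := fun z => z ∈ H i)
          (fun z => by simp)]
      · refine Finset.sum_congr rfl fun h _ => ?_
        simp only [h.2, if_true, OneMemClass.coe_eq_one]
      · intro z _ hz
        simp only [Finset.mem_filter, Finset.mem_univ, true_and] at hz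
        simp [hz]
    calc (Nat.card G : ℝ) * (∑ h : H i, if h = 1 then 0 else F h)
        = ∑ x : G, ∑ y : G,
            (if y = 1 then 0 else if x⁻¹ * y * x ∈ H i then F y else 0) := by
          rw [Finset.sum_congr rfl fun x _ => h1 x, Finset.sum_const, Finset.card_univ,
            nsmul_eq_mul, Nat.card_eq_fintype_card]
      _ = _ := by
          rw [Finset.sum_comm]
          refine Finset.sum_congr rfl fun y _ => ?_
          split_ifs
          · simp
          · rw [Finset.sum_ite, Finset.sum_const_zero, add_zero, Finset.sum_const, nsmul_eq_mul,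
              mul_comm]
  have hcount : ∀ y : G, y ≠ 1 →
      ∑ i, ((Finset.univ.filter fun x : G => x⁻¹ * y * x ∈ H i).card : ℝ) /
        (Nat.card (Subgroup.normalizer (H i : Set G)) : ℝ) = 1 := by
    intro y hy
    obtain ⟨i, x, hx⟩ := hcover y hy
    rw [Finset.sum_eq_single i]
    · rw [card_conj_mem (hTI i) hy (x₀ := x⁻¹) (by simpa using hx)]
      exact div_self (Nat.cast_ne_zero.mpr Nat.card_pos.ne')
    · intro j _ hj
      rw [Finset.filter_false_of_mem, Finset.card_empty, Nat.cast_zero, zero_div]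
      intro z _ hz
      have := hap i j (Ne.symm hj) (x * z) (z⁻¹ * y * z) hz (by
        convert hx using 1; group)
      exact hy ((conj_eq_one_iff (a := z⁻¹)).mp (by simpa using this))
    · exact fun h => absurd (Finset.mem_univ i) h
  simp only [div_mul_eq_mul_div, hpart]
  simp only [Finset.sum_div]
  rw [Finset.sum_comm, ← Finset.add_sum_erase _ _ (Finset.mem_univ (1 : G)),
    ← Finset.add_sum_erase (s := Finset.univ) _ (Finset.mem_univ (1 : G))]
  simp only [if_true, zero_div, Finset.sum_const_zero, zero_add]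
  congr 1
  refine Finset.sum_congr rfl fun y hy => ?_
  have hy' := Finset.ne_of_mem_erase hy
  simp only [if_neg hy', mul_div_assoc, ← Finset.mul_sum, hcount y hy', mul_one]

/-- No group of odd order is covered by two or more Frobenius kernels of coprime orders. -/
theorem contra [Nonempty ι] (H : ι → Subgroup G) (hK : ∀ i, Ker (H i))
    (hap : ∀ i j, i ≠ j → Apart (H i) (H j))
    (hcop : ∀ i j, i ≠ j → Nat.Coprime (Nat.card (H i)) (Nat.card (H j)))
    (hcover : ∀ y : G, y ≠ 1 → ∃ i, ∃ x : G, x * y * x⁻¹ ∈ H i) : False := by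
  have hE : ∀ i, Nonempty (Exc (H i)) := fun i => exists_exc (hK i)
  let E : ∀ i, Exc (H i) := fun i => (hE i).some
  choose a ha using fun i => (hK i).lin_ne
  let a₀ : ∀ i, Nt (H i) := fun i => ⟨a i, ha i⟩
  let B : ι → Finset ι := fun i => Finset.univ.filter fun j =>
    j ≠ i ∧ Odd (gam (H i) (a i) ((E j).chi (orb (a₀ j))))
  have hG : (0 : ℝ) < (Nat.card G : ℝ) := Nat.cast_pos.mpr Nat.card_pos
  have hN : ∀ i, (Nat.card (Subgroup.normalizer (H i : Set G)) : ℝ) =
      (Nat.card (H i) : ℝ) * (idx (H i) : ℝ) := fun i => by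
    rw [← Nat.cast_mul, idx_mul]
  refine arith (fun i => idx (H i)) (fun i => nOrb (H i))
    (fun i => ((Nat.card (H i) : ℝ) - 1) / ((Nat.card (H i) : ℝ) * (idx (H i) : ℝ))) B
    (1 / (Nat.card G : ℝ)) (fun i => ⟨idx_odd (hK i), three_le_idx (hK i)⟩)
    (fun i => ⟨even_nOrb (hK i), two_le_nOrb (hK i)⟩) ?_ ?_ (fun i => by simp [B]) ?_ ?_
    (by positivity) ?_
  · intro i j hij
    simp only [← card_lin (hK i), ← card_lin (hK j)]
    exact Nat.Coprime.of_dvd (card_lin_dvd _) (card_lin_dvd _) (hcop i j hij)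
  · intro i
    have h1 : (1 : ℝ) ≤ (Nat.card (H i) : ℝ) := by exact_mod_cast Nat.card_pos
    have h3 : (0 : ℝ) < (idx (H i) : ℝ) := by exact_mod_cast idx_pos
    constructor
    · apply div_nonneg <;> nlinarith
    · rw [div_le_div_iff₀ (by positivity) h3]; nlinarith
  · intro i
    have hs := sum_gam_sq (hK i) (a₀ i)
    have hsub : ∑ θ ∈ {principal G} ∪ Finset.univ.image (E i).chi ∪
        (B i).biUnion (fun j => Finset.univ.image (E j).chi),
        gam (H i) (a i) θ * gam (H i) (a i) θ ≤ (idx (H i) : ℤ) + 1 := by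
      rw [← hs]
      exact Finset.sum_le_sum_of_subset_of_nonneg (Finset.subset_univ _)
        fun θ _ _ => mul_self_nonneg _
    have hd1 : Disjoint ({principal G} : Finset (Cfsg.IrrCharacter G))
        (Finset.univ.image (E i).chi) := by
      simp only [Finset.disjoint_singleton_left, Finset.mem_image, Finset.mem_univ, true_and,
        not_exists]
      exact fun o => (E i).chi_ne_principal o
    have hd2 : Disjoint ({principal G} ∪ Finset.univ.image (E i).chi)
        ((B i).biUnion fun j => Finset.univ.image (E j).chi) := by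
      rw [Finset.disjoint_left]
      intro θ h1 h2
      obtain ⟨j, hj, h2⟩ := Finset.mem_biUnion.mp h2
      obtain ⟨p, -, rfl⟩ := Finset.mem_image.mp h2
      rcases Finset.mem_union.mp h1 with h1 | h1
      · exact (E j).chi_ne_principal p (Finset.mem_singleton.mp h1)
      · obtain ⟨o, -, e⟩ := Finset.mem_image.mp h1
        simp only [B, Finset.mem_filter] at hj
        exact (E i).chi_ne_chi (E j) (hap i j hj.2.1.symm) o p e
    rw [Finset.sum_union hd2, Finset.sum_union hd1, Finset.sum_singleton, Finset.sum_biUnion] at hsub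
    · have h1 : gam (H i) (a i) (principal G) = 1 := gam_principal (a₀ i)
      have h2 : (1 : ℤ) ≤ ∑ θ ∈ Finset.univ.image (E i).chi,
          gam (H i) (a i) θ * gam (H i) (a i) θ := by
        rw [Finset.sum_image fun _ _ _ _ e => (E i).inj e]
        obtain ⟨b, hb⟩ := (E i).exists_other (a₀ i)
        have h3 := (E i).gam_chi (a₀ i) b
        rw [if_neg hb, mul_one] at h3
        have h4 : (gam (H i) (a i) ((E i).chi (orb b)) ≠ 0) ∨
            gam (H i) (a i) ((E i).chi (orb (a₀ i))) ≠ 0 := by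
          by_contra hc
          push Not at hc
          rw [show (a₀ i).1 = a i from rfl, hc.1, hc.2, sub_zero] at h3
          have := (E i).sgn_sq
          rw [← h3] at this
          simp at this
        rcases h4 with h4 | h4
        · exact le_trans (by have := mul_self_pos.mpr h4; omega)
            (Finset.single_le_sum (fun o _ => mul_self_nonneg (gam (H i) (a i) ((E i).chi o)))
              (Finset.mem_univ (orb b)))
        · exact le_trans (by have := mul_self_pos.mpr h4; omega)
            (Finset.single_le_sum (fun o _ => mul_self_nonneg (gam (H i) (a i) ((E i).chi o)))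
              (Finset.mem_univ (orb (a₀ i))))
      have h5 : ∀ j ∈ B i, (nOrb (H j) : ℤ) ≤ ∑ θ ∈ Finset.univ.image (E j).chi,
          gam (H i) (a i) θ * gam (H i) (a i) θ := by
        intro j hj
        simp only [B, Finset.mem_filter] at hj
        rw [Finset.sum_image fun _ _ _ _ e => (E j).inj e, nOrb, ← Finset.card_univ,
          Finset.card_eq_sum_ones, Nat.cast_sum]
        refine Finset.sum_le_sum fun o _ => ?_
        rw [gam_const (E j) (hap i j hj.2.1.symm) (a i) o (orb (a₀ j))]
        obtain ⟨k, hk⟩ := hj.2.2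
        have := mul_self_pos.mpr (show gam (H i) (a i) ((E j).chi (orb (a₀ j))) ≠ 0 by omega)
        push_cast
        omega
      have h6 := Finset.sum_le_sum h5
      rw [h1] at hsub
      have : (∑ j ∈ B i, (nOrb (H j) : ℤ)) + 1 ≤ (idx (H i) : ℤ) := by linarith
      exact_mod_cast this
    · intro j hj k hk hjk
      simp only [Function.onFun, Finset.disjoint_left]
      intro θ h1 h2
      obtain ⟨p, -, rfl⟩ := Finset.mem_image.mp h1
      obtain ⟨q, -, e⟩ := Finset.mem_image.mp h2
      exact (E j).chi_ne_chi (E k) (hap j k hjk) p q e.symm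
  · have h := sum_cover H (fun i => (hK i).ti) hap hcover (fun _ => 1) (fun _ _ => rfl)
    simp only [Finset.sum_const, Finset.card_univ, nsmul_eq_mul, mul_one, ← Nat.card_eq_fintype_card,
      hN, Finset.sum_ite, Finset.filter_eq', Finset.filter_ne', Finset.mem_univ, if_true,
      Finset.card_erase_of_mem, mul_zero, zero_add] at h
    have hterm : ∀ i, (Nat.card G : ℝ) / ((Nat.card (H i) : ℝ) * (idx (H i) : ℝ)) *
        ((Nat.card (H i) - 1 : ℕ) : ℝ) = (Nat.card G : ℝ) *
          (((Nat.card (H i) : ℝ) - 1) / ((Nat.card (H i) : ℝ) * (idx (H i) : ℝ))) := fun i => by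
      rw [Nat.cast_sub Nat.card_pos, Nat.cast_one]; ring
    rw [Finset.sum_congr rfl fun i _ => hterm i, ← Finset.mul_sum] at h
    have := mul_left_cancel₀ hG.ne' (show (Nat.card G : ℝ) * ∑ i, ((Nat.card (H i) : ℝ) - 1) /
      ((Nat.card (H i) : ℝ) * (idx (H i) : ℝ)) = (Nat.card G : ℝ) * (1 - 1 / (Nat.card G : ℝ)) by
        rw [mul_sub, mul_one_div, div_self hG.ne', mul_one]; linarith)
    exact this
  · intro i
    set θ := (E i).chi (orb (a₀ i))
    have hcls := IsCharacter.isClassFunction (IsIrrCharacter.isCharacter θ.2)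
    have h := sum_cover H (fun i => (hK i).ti) hap hcover
      (fun y => Complex.normSq ((θ : G → ℂ) y)) (fun x y => by rw [hcls y x])
    have hnorm : ∑ y, Complex.normSq ((θ : G → ℂ) y) = (Nat.card G : ℝ) := by
      have := classInner_self_irr θ.2
      simp only [Cfsg.classInner, Complex.mul_conj] at this
      rw [inv_mul_eq_iff_eq_mul₀ (Nat.cast_ne_zero.mpr Nat.card_pos.ne'), mul_one] at this
      exact_mod_cast this
    have h1 : (1 : ℝ) ≤ Complex.normSq ((θ : G → ℂ) 1) := by
      obtain ⟨d, hd⟩ := IsIrrCharacter.exists_degree θ.2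
      obtain ⟨hd0', hd⟩ := hd
      have hd0 : d ≠ 0 := hd0'.ne'
      have hd1 : (1 : ℝ) ≤ (d : ℝ) := by exact_mod_cast Nat.one_le_iff_ne_zero.mpr hd0
      rw [hd, Complex.normSq_natCast]
      nlinarith
    have hm : ∀ j, (∑ h : H j, if h = 1 then 0 else Complex.normSq ((θ : G → ℂ) h)) =
        mass (H j) (θ : G → ℂ) := fun j => rfl
    rw [hnorm] at h
    simp only [hm, hN, div_mul_eq_mul_div, mul_div_assoc, ← Finset.mul_sum] at h
    set T : ι → ℝ := fun j =>
      mass (H j) (θ : G → ℂ) / ((Nat.card (H j) : ℝ) * (idx (H j) : ℝ))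
    have hT0 : ∀ j, 0 ≤ T j := fun j => div_nonneg (mass_nonneg _) (by positivity)
    have hall : 1 / (Nat.card G : ℝ) + ∑ j, T j ≤ 1 := by
      rw [← mul_le_mul_iff_right₀ hG, mul_add, mul_one_div, div_self hG.ne', mul_one]
      linarith
    have hTi : 1 - (idx (H i) : ℝ) / ((idx (H i) * nOrb (H i) + 1 : ℕ) : ℝ) ≤ T i := by
      have h2 := (E i).mass_ge (a₀ i)
      have : (0 : ℝ) < (idx (H i) : ℝ) := by exact_mod_cast idx_pos
      have : (0 : ℝ) < (Nat.card (H i) : ℝ) := Nat.cast_pos.mpr Nat.card_pos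
      push_cast
      simp only [T]
      rw [le_div_iff₀ (by positivity), ← mul_le_mul_iff_right₀
        (show (0 : ℝ) < (idx (H i) : ℝ) * nOrb (H i) + 1 by positivity)]
      refine le_trans (le_of_eq ?_) h2
      field_simp
    have hTj : ∀ j ∈ Finset.univ \ insert i (B i),
        (1 - 1 / ((idx (H j) * nOrb (H j) + 1 : ℕ) : ℝ)) / (idx (H j) : ℝ) ≤ T j := by
      intro j hj
      simp only [Finset.mem_sdiff, Finset.mem_insert, Finset.mem_univ, true_and, not_or, B,
        Finset.mem_filter] at hj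
      have hy : Even (gam (H i) (a i) ((E j).chi (orb (a₀ j)))) :=
        Int.not_odd_iff_even.mp fun h => hj.2 ⟨hj.1, h⟩
      have hne : ∀ o, (E j).chi o ≠ θ := fun o e =>
        (E j).chi_ne_chi (E i) (hap j i hj.1) o _ e
      have hodd : ∀ b : Nt (H j), coef (H j) θ 1 ≠ coef (H j) θ b.1 := by
        intro b e
        have := odd_coef (E i) (E j) (hap i j (Ne.symm hj.1)) (a₀ i) (orb (a₀ j)) hy b
        rw [e, sub_self] at this
        exact absurd this (by simp)
      have h2 := mass_ge_of_ne (hK j) θ ((E j).coef_eq_of_not_exc hne) hodd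
      have : (0 : ℝ) < (idx (H j) : ℝ) := by exact_mod_cast idx_pos
      have : (0 : ℝ) < (Nat.card (H j) : ℝ) := Nat.cast_pos.mpr Nat.card_pos
      push_cast
      simp only [T]
      rw [div_le_iff₀ (by positivity : (0 : ℝ) < (idx (H j) : ℝ))]
      rw [div_mul_eq_mul_div, le_div_iff₀ (by positivity), ← mul_le_mul_iff_right₀
        (show (0 : ℝ) < (idx (H j) : ℝ) * nOrb (H j) + 1 by positivity)]
      calc _ = ((Nat.card (H j) : ℝ) * (idx (H j) * nOrb (H j))) * (idx (H j) : ℝ) := by
            field_simp; ring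
        _ ≤ _ := mul_le_mul_of_nonneg_right h2 (by positivity)
        _ = _ := by ring
    have hi : i ∉ Finset.univ \ insert i (B i) := by simp
    have := Finset.sum_le_sum hTj
    have hle : T i + ∑ j ∈ Finset.univ \ insert i (B i), T j ≤ ∑ j, T j := by
      rw [← Finset.sum_insert hi]
      exact Finset.sum_le_sum_of_subset_of_nonneg (Finset.subset_univ _) fun j _ _ => hT0 j
    linarith

end Cfsg.Agent.Char.FHT
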