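import Cfsg.Agent.Lib.Char.FHT.Single

/-!
# Parity and norm bounds for exceptional characters of two TI Frobenius kernels
-/

set_option linter.style.haveILetI false
set_option linter.unusedSectionVars false
set_option autoImplicit false

namespace Cfsg.Agent.Char.FHT

open scoped ComplexConjugate Classical
open Cfsg

universe u

variable {G : Type u} [Group G] [Fintype G] {H K : Subgroup G}

/-- The mass of `θ` on the non-identity elements of `H`. -/
noncomputable def mass (H : Subgroup G) (θ : G → ℂ) : ℝ :=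
  ∑ h : H, if h = 1 then 0 else Complex.normSq (θ h)

theorem mass_nonneg (θ : G → ℂ) : 0 ≤ mass H θ :=
  Finset.sum_nonneg fun h _ => by split_ifs <;> [exact le_rfl; exact Complex.normSq_nonneg _]

theorem mass_le (θ : Cfsg.IrrCharacter G) [Fintype (H →* ℂˣ)] :
    (Nat.card H : ℝ) * ((Nat.card (H →* ℂˣ) : ℝ) * ∑ a : H →* ℂˣ, (coef H θ a : ℝ) ^ 2 -
      (∑ a : H →* ℂˣ, (coef H θ a : ℝ)) ^ 2) ≤ Nat.card (H →* ℂˣ) * mass H (θ : G → ℂ) := by
  set A : ℝ := (Nat.card (H →* ℂˣ) : ℝ) with hA
  have hApos : 0 < A := Nat.cast_pos.mpr Nat.card_pos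
  set S : ℝ := ∑ a : H →* ℂˣ, (coef H θ a : ℝ) with hS
  set V : ℝ := A * ∑ a : H →* ℂˣ, (coef H θ a : ℝ) ^ 2 - S ^ 2 with hV
  let v : (H →* ℂˣ) → ℝ := fun a => A * (coef H θ a : ℝ) - S
  have hA' : A = (Fintype.card (H →* ℂˣ) : ℝ) := by rw [hA, Nat.card_eq_fintype_card]
  have hv0 : ∑ a, v a = 0 := by
    simp only [v, Finset.sum_sub_distrib, ← Finset.mul_sum, Finset.sum_const, Finset.card_univ,
      nsmul_eq_mul, ← hA']
    ring
  have hvn : ∑ a, v a * (coef H θ a : ℝ) = V := by
    simp only [v, sub_mul, Finset.sum_sub_distrib, mul_assoc, ← Finset.mul_sum, ← pow_two, hV, hS]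
  have hvv : ∑ a, v a * v a = A * V := by
    calc ∑ a, v a * v a = ∑ a, (A * (v a * (coef H θ a : ℝ)) - S * v a) :=
          Finset.sum_congr rfl fun a _ => by simp only [v]; ring
      _ = _ := by rw [Finset.sum_sub_distrib, ← Finset.mul_sum, ← Finset.mul_sum, hvn, hv0]; ring
  set F : H → ℂ := ∑ a, (v a : ℂ) • lin H a with hF
  have hF1 : F 1 = 0 := by
    simp only [hF, Finset.sum_apply, Pi.smul_apply, lin, map_one, Units.val_one, smul_eq_mul,
      mul_one]
    exact_mod_cast hv0
  have hFF : ∑ h : H, Complex.normSq (F h) = (Nat.card H : ℝ) * (A * V) := by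
    have e : Cfsg.classInner F F = ((A * V : ℝ) : ℂ) := by
      rw [← hvv, hF, classInner_sum_left]
      push_cast
      refine Finset.sum_congr rfl fun a _ => ?_
      rw [classInner_smul_left, classInner_sum_right, Finset.sum_eq_single a]
      · rw [classInner_smul_right, classInner_lin, if_pos rfl, Complex.conj_ofReal, mul_one]
      · intro b _ hb
        rw [classInner_smul_right, classInner_lin, if_neg hb.symm, mul_zero]
      · exact fun h => absurd (Finset.mem_univ a) h
    simp only [Cfsg.classInner, Complex.mul_conj] at e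
    rw [inv_mul_eq_iff_eq_mul₀ (Nat.cast_ne_zero.mpr Nat.card_pos.ne')] at e
    exact_mod_cast e
  have hFθ : ∑ h : H, F h * conj ((θ : G → ℂ) h) = (((Nat.card H : ℝ) * V : ℝ) : ℂ) := by
    have e : Cfsg.classInner F (fun h : H => (θ : G → ℂ) h) = ((V : ℝ) : ℂ) := by
      rw [← hvn, hF, classInner_sum_left]
      push_cast
      refine Finset.sum_congr rfl fun a _ => ?_
      rw [classInner_smul_left, ← classInner_indFun_left H (lin H a)
        (IsCharacter.isClassFunction (IsIrrCharacter.isCharacter θ.2))]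
      exact congrArg _ (coef_spec θ a)
    simp only [Cfsg.classInner] at e
    rw [inv_mul_eq_iff_eq_mul₀ (Nat.cast_ne_zero.mpr Nat.card_pos.ne')] at e
    rw [e]
    push_cast
    rfl
  let g : H → ℝ := fun h => if h = 1 then 0 else ‖(θ : G → ℂ) h‖
  have hb : ‖(((Nat.card H : ℝ) * V : ℝ) : ℂ)‖ ≤ ∑ h : H, ‖F h‖ * g h := by
    rw [← hFθ]
    refine (norm_sum_le _ _).trans (Finset.sum_le_sum fun h _ => ?_)
    by_cases h1 : h = 1
    · subst h1; simp [g, hF1]
    · simp only [g, if_neg h1, norm_mul, Complex.norm_conj]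
      exact le_rfl
  have hcs := Finset.sum_mul_sq_le_sq_mul_sq Finset.univ (fun h : H => ‖F h‖) g
  have h1 : ∑ h : H, ‖F h‖ ^ 2 = (Nat.card H : ℝ) * (A * V) := by
    simp only [← Complex.normSq_eq_norm_sq, hFF]
  have h2 : ∑ h : H, g h ^ 2 = mass H (θ : G → ℂ) := by
    refine Finset.sum_congr rfl fun h _ => ?_
    simp only [g]
    split_ifs with h' <;> simp [Complex.normSq_eq_norm_sq]
  rw [h1, h2] at hcs
  rw [Complex.norm_real, Real.norm_eq_abs] at hb
  have h3 : ((Nat.card H : ℝ) * V) ^ 2 ≤ (Nat.card H : ℝ) * (A * V) * mass H (θ : G → ℂ) := by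
    refine le_trans ?_ hcs
    rw [← sq_abs]
    exact pow_le_pow_left₀ (abs_nonneg _) hb 2
  rcases le_or_gt V 0 with hV0 | hV0
  · exact le_trans (mul_nonpos_of_nonneg_of_nonpos (Nat.cast_nonneg _) hV0)
      (mul_nonneg hApos.le (mass_nonneg _))
  · have hpos : 0 < (Nat.card H : ℝ) * V := mul_pos (Nat.cast_pos.mpr Nat.card_pos) hV0
    refine le_of_mul_le_mul_left ?_ hpos
    calc _ = ((Nat.card H : ℝ) * V) ^ 2 := by ring
      _ ≤ _ := h3
      _ = _ := by ring

/-- The bound on a subgroup where the multiplicity of the principal character differs. -/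
theorem mass_ge_of_ne (hK : Ker H) (θ : Cfsg.IrrCharacter G)
    (hc : ∀ a b : Nt H, coef H θ a.1 = coef H θ b.1)
    (hne : ∀ a : Nt H, coef H θ 1 ≠ coef H θ a.1) :
    (Nat.card H : ℝ) * (idx H * nOrb H) ≤ (idx H * nOrb H + 1) * mass H (θ : G → ℂ) := by
  haveI : Fintype (H →* ℂˣ) := Fintype.ofFinite _
  obtain ⟨a₁, ha₁⟩ := hK.lin_ne
  have h := mass_le (H := H) θ
  rw [sum_lin, sum_lin, Finset.sum_congr rfl fun (a : Nt H) _ =>
    show (coef H θ a.1 : ℝ) ^ 2 = (coef H θ a₁ : ℝ) ^ 2 by rw [hc a ⟨a₁, ha₁⟩],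
    Finset.sum_congr rfl fun (a : Nt H) _ =>
    show (coef H θ a.1 : ℝ) = (coef H θ a₁ : ℝ) by rw [hc a ⟨a₁, ha₁⟩],
    Finset.sum_const, Finset.sum_const, Finset.card_univ, card_nt hK, card_lin hK] at h
  push_cast [nsmul_eq_mul] at h
  have hz : (1 : ℝ) ≤ ((coef H θ 1 : ℝ) - coef H θ a₁) ^ 2 := by
    have hh : (1 : ℤ) ≤ (coef H θ 1 - coef H θ a₁) ^ 2 :=
      Int.add_one_le_iff.mpr (sq_pos_of_ne_zero (sub_ne_zero.mpr (hne ⟨a₁, ha₁⟩)))
    exact_mod_cast hh
  refine le_trans ?_ h
  have hh : (0 : ℝ) ≤ (Nat.card H : ℝ) * ((idx H : ℝ) * nOrb H) := by positivity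
  nlinarith [mul_le_mul_of_nonneg_left hz hh]

/-- The bound on the subgroup the exceptional character belongs to. -/
theorem Exc.mass_ge (E : Exc H) (a₀ : Nt H) :
    (Nat.card H : ℝ) * (idx H * (idx H * nOrb H + 1 - idx H)) ≤
      (idx H * nOrb H + 1) * mass H (E.chi (orb a₀) : G → ℂ) := by
  haveI : Fintype (H →* ℂˣ) := Fintype.ofFinite _
  set θ := E.chi (orb a₀)
  obtain ⟨b₀, hb₀⟩ := E.exists_other a₀
  set y : ℤ := coef H θ b₀.1
  have hval : ∀ a : Nt H, (coef H θ a.1 : ℝ) = y + if orb a = orb a₀ then (E.sgn : ℝ) else 0 := by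
    intro a
    have h := E.coef_sub θ a b₀
    rw [if_congr (show E.chi (orb a) = θ ↔ orb a = orb a₀ from E.inj.eq_iff) rfl rfl,
      if_neg (show E.chi (orb b₀) ≠ θ from fun e => hb₀ (E.inj e)), sub_zero] at h
    split_ifs at h ⊢ with h'
    · rw [mul_one] at h; exact_mod_cast (show coef H θ a.1 = y + E.sgn by linarith)
    · rw [mul_zero] at h; rw [add_zero]; exact_mod_cast (show coef H θ a.1 = y by linarith)
  have hf := card_orb_fibre E.ker (orb a₀)
  have h := mass_le (H := H) θ
  rw [sum_lin, sum_lin, Finset.sum_congr rfl fun (a : Nt H) _ =>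
    show (coef H θ a.1 : ℝ) ^ 2 = (y : ℝ) ^ 2 +
      if orb a = orb a₀ then 2 * y * (E.sgn : ℝ) + 1 else 0 by
        rw [hval a]
        split_ifs
        · have : (E.sgn : ℝ) * E.sgn = 1 := by exact_mod_cast E.sgn_sq
          nlinarith
        · ring,
    Finset.sum_congr rfl fun (a : Nt H) _ => hval a] at h
  simp only [Finset.sum_add_distrib, Finset.sum_ite, Finset.sum_const, Finset.card_univ, card_nt E.ker, hf,
    smul_zero, add_zero, card_lin E.ker, nsmul_eq_mul, mul_zero] at h
  push_cast at h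
  set z : ℤ := coef H θ 1 - y with hz
  have hkey : (0 : ℝ) ≤ (idx H * nOrb H : ℝ) * (z : ℝ) ^ 2 -
      2 * (E.sgn : ℝ) * (idx H : ℝ) * (z : ℝ) := by
    have hw : (2 : ℤ) ≤ nOrb H := by exact_mod_cast two_le_nOrb E.ker
    have hs : E.sgn ≤ 1 ∧ -1 ≤ E.sgn := by constructor <;> nlinarith [E.sgn_sq]
    have : (0 : ℤ) ≤ (idx H * nOrb H : ℤ) * z ^ 2 - 2 * E.sgn * idx H * z := by
      have e : (idx H * nOrb H : ℤ) * z ^ 2 - 2 * E.sgn * idx H * z =
          (idx H : ℤ) * (((nOrb H : ℤ) - 2) * z ^ 2 + (2 * z ^ 2 - 2 * E.sgn * z)) := by ring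
      rw [e]
      refine mul_nonneg (Int.natCast_nonneg _) (add_nonneg (mul_nonneg (by linarith) (sq_nonneg _)) ?_)
      rcases lt_trichotomy z 0 with hz0 | hz0 | hz0
      · nlinarith
      · simp [hz0]
      · nlinarith
    exact_mod_cast this
  refine le_trans ?_ h
  have hh : (0 : ℝ) ≤ (Nat.card H : ℝ) := Nat.cast_nonneg _
  have hs' : (E.sgn : ℝ) ^ 2 = 1 := by rw [pow_two]; exact_mod_cast E.sgn_sq
  have hzR : (coef H θ 1 : ℝ) = (z : ℝ) + (y : ℝ) := by rw [hz]; push_cast; ring
  refine mul_le_mul_of_nonneg_left ?_ hh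
  rw [hzR]
  nlinarith [hkey, congrArg (fun t : ℝ => (idx H : ℝ) ^ 2 * t) hs']

/-- The coefficient of `θ` in the function induced from `1 - a`. -/
noncomputable def gam (H : Subgroup G) (a : H →* ℂˣ) (θ : Cfsg.IrrCharacter G) : ℤ :=
  coef H θ 1 - coef H θ a

theorem gam_spec (a : H →* ℂˣ) (θ : Cfsg.IrrCharacter G) :
    Cfsg.classInner (ind H 1 - ind H a) θ = gam H a θ := by
  rw [classInner_sub_left, coef_spec, coef_spec, gam, Int.cast_sub]

theorem gam_eq_sum (a : H →* ℂˣ) :
    ind H 1 - ind H a = ∑ θ : Cfsg.IrrCharacter G, (gam H a θ : ℂ) • (θ : G → ℂ) := by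
  conv_lhs => rw [classFunction_eq_sum (IsClassFunction.sub
    (IsGeneralizedCharacter.isClassFunction (ind_gen (H := H) 1))
    (IsGeneralizedCharacter.isClassFunction (ind_gen (H := H) a)))]
  exact Finset.sum_congr rfl fun θ _ => by rw [gam_spec]

theorem gam_principal (a : Nt H) : gam H a.1 (principal G) = 1 := by
  rw [gam, coef_principal, coef_principal, if_pos rfl, if_neg a.2, sub_zero]

theorem sum_gam_sq (hK : Ker H) (a : Nt H) :
    ∑ θ : Cfsg.IrrCharacter G, gam H a.1 θ * gam H a.1 θ = (idx H : ℤ) + 1 := by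
  have h := classInner_ind_sub hK a.2 a.2
  rw [if_pos (rel_equiv.refl _), IsGeneralizedCharacter.norm_eq (gam_eq_sum a.1)] at h
  exact_mod_cast h

theorem Exc.gam_chi (E : Exc H) (a b : Nt H) :
    gam H a.1 (E.chi (orb b)) - gam H a.1 (E.chi (orb a)) =
      E.sgn * if orb b = orb a then 0 else 1 := by
  have e := congrArg (fun f => Cfsg.classInner (ind H 1 - ind H a.1) f) (E.diff b a)
  rw [show ind H b.1 - ind H a.1 = (ind H 1 - ind H a.1) - (ind H 1 - ind H b.1) by abel,
    classInner_sub_right, classInner_ind_sub E.ker a.2 a.2, classInner_ind_sub E.ker a.2 b.2,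
    if_pos (rel_equiv.refl _), classInner_smul_right, classInner_sub_right, gam_spec, gam_spec,
    map_intCast] at e
  have hs := E.sgn_sq
  by_cases h : orb b = orb a
  · rw [h]; simp
  · rw [if_neg (fun h' => h (orb_eq_iff.mpr h'))] at e
    have e' : (1 : ℤ) = E.sgn * (gam H a.1 (E.chi (orb b)) - gam H a.1 (E.chi (orb a))) := by
      have e2 : ((1 : ℤ) : ℂ) =
          ((E.sgn * (gam H a.1 (E.chi (orb b)) - gam H a.1 (E.chi (orb a))) : ℤ) : ℂ) := by
        push_cast
        linear_combination e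
      exact_mod_cast e2
    rw [if_neg h]
    calc gam H a.1 (E.chi (orb b)) - gam H a.1 (E.chi (orb a))
        = E.sgn * (E.sgn * (gam H a.1 (E.chi (orb b)) - gam H a.1 (E.chi (orb a)))) := by
          rw [← mul_assoc, hs, one_mul]
      _ = E.sgn * 1 := by rw [← e']

theorem bar_eq_self {θ : Cfsg.IrrCharacter G} (hodd : Odd (Nat.card G))
    (h : RealChar.bar θ = θ) : θ = principal G := by
  have hcard : Nat.card {χ : Cfsg.IrrCharacter G // ∀ g, ((χ : G → ℂ) g).im = 0} ≤ 1 := by
    rw [RealChar.card_real, Finite.card_le_one_iff_subsingleton]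
    refine ⟨fun c d => Subtype.ext ?_⟩
    suffices ∀ c : {c : ConjClasses G // ∀ g, ConjClasses.mk g = c → IsConj g g⁻¹},
        c.1 = ConjClasses.mk 1 from (this c).trans (this d).symm
    intro c
    obtain ⟨g, hg⟩ := ConjClasses.mk_surjective c.1
    obtain ⟨x, hx⟩ := isConj_iff.mp (c.2 g hg)
    rw [← hg]
    have h2 : Commute (x ^ 2) g := by
      show x ^ 2 * g = g * x ^ 2
      have h3 : x * g⁻¹ * x⁻¹ = g := by
        have := congrArg (·⁻¹) hx
        simpa [mul_assoc] using this
      calc x ^ 2 * g = x * (x * g * x⁻¹) * x⁻¹ * x ^ 2 := by rw [pow_two]; group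
        _ = g * x ^ 2 := by rw [hx, h3]
    obtain ⟨k, hk⟩ : Odd (orderOf x) := hodd.of_dvd_nat (orderOf_dvd_natCard x)
    have hx2 : x = (x ^ 2) ^ (k + 1) := by
      rw [← pow_mul, show 2 * (k + 1) = orderOf x + 1 by omega, pow_succ, pow_orderOf_eq_one,
        one_mul]
    have hxg : Commute x g := by rw [hx2]; exact h2.pow_left _
    rw [hxg.eq, mul_inv_cancel_right] at hx
    obtain ⟨l, hl⟩ : Odd (orderOf g) := hodd.of_dvd_nat (orderOf_dvd_natCard g)
    have hg2 : g ^ 2 = 1 := by rw [pow_two]; exact eq_inv_iff_mul_eq_one.mp hx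
    have : g = 1 := by
      have := pow_orderOf_eq_one g
      rwa [hl, pow_succ, pow_mul, hg2, one_pow, one_mul] at this
    rw [this]
  haveI : Subsingleton {χ : Cfsg.IrrCharacter G // ∀ g, ((χ : G → ℂ) g).im = 0} :=
    Finite.card_le_one_iff_subsingleton.mp hcard
  exact congrArg Subtype.val (Subsingleton.elim
    (⟨θ, (RealChar.bar_eq_self_iff θ).mp h⟩ :
      {χ : Cfsg.IrrCharacter G // ∀ g, ((χ : G → ℂ) g).im = 0})
    ⟨principal G, fun _ => Complex.one_im⟩)

/-- The inverse of a nontrivial linear character. -/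
def Nt.inv (a : Nt H) : Nt H :=
  ⟨a.1⁻¹, fun h => a.2 (MonoidHom.ext fun x => inv_eq_one.mp (by
    rw [← MonoidHom.inv_apply, h, MonoidHom.one_apply]))⟩

theorem lin_inv_one : (1 : H →* ℂˣ)⁻¹ = 1 := MonoidHom.ext fun x => by simp

theorem coef_bar (θ : Cfsg.IrrCharacter G) (a : H →* ℂˣ) :
    coef H (RealChar.bar θ) a = coef H θ a⁻¹ := by
  have h1 := coef_spec (RealChar.bar θ) a
  have h2 := congrArg conj (coef_spec θ a⁻¹)
  rw [map_intCast] at h2
  have hind : ∀ g, conj (ind H a⁻¹ g) = ind H a g := by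
    intro g
    simp only [ind, indFun_apply, map_mul, map_inv₀, map_natCast, map_sum]
    congr 1
    refine Finset.sum_congr rfl fun x _ => ?_
    by_cases hm : x⁻¹ * g * x ∈ H
    · rw [extendByZero_mem _ _ hm, extendByZero_mem _ _ hm]
      have h4 := IsCharacter.inv (IsIrrCharacter.isCharacter (lin_irr H a)) ⟨_, hm⟩
      simp only [lin, map_inv] at h4 ⊢
      simp only [MonoidHom.inv_apply, Units.val_inv_eq_inv_val] at h4 ⊢
      rw [h4, Complex.conj_conj]
    · rw [extendByZero_not_mem _ _ hm, extendByZero_not_mem _ _ hm, map_zero]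
  have e : Cfsg.classInner (ind H a) (RealChar.bar θ : G → ℂ) =
      conj (Cfsg.classInner (ind H a⁻¹) (θ : G → ℂ)) := by
    simp only [Cfsg.classInner, map_mul, map_inv₀, map_natCast, map_sum, hind]
    rfl
  rw [e, h2] at h1
  exact_mod_cast h1.symm

theorem Exc.bar_ne (E : Exc H) {θ : Cfsg.IrrCharacter G} (h : ∀ o, E.chi o ≠ θ) :
    ∀ o, E.chi o ≠ RealChar.bar θ := by
  intro o ho
  obtain ⟨b, hb⟩ := E.exists_other o.out
  have e := E.coef_sub (RealChar.bar θ) o.out b
  rw [orb_out, if_pos ho, if_neg (fun e' => hb (by rw [orb_out]; exact E.inj (e'.trans ho.symm))),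
    coef_bar, coef_bar,
    show coef H θ (o.out.1)⁻¹ = coef H θ (b.1)⁻¹ from
      E.coef_eq_of_not_exc h (Nt.inv o.out) (Nt.inv b)] at e
  have h' := E.sgn_sq
  rw [show E.sgn = 0 by linarith] at h'
  simp at h'

theorem bar_bar (θ : Cfsg.IrrCharacter G) : RealChar.bar (RealChar.bar θ) = θ :=
  Subtype.ext (funext fun g => Complex.conj_conj _)

theorem bar_principal : RealChar.bar (principal G) = principal G :=
  Subtype.ext (funext fun g => by simp [RealChar.bar, principal])

/-- No conjugate of a non-identity element of `K` lies in `H`. -/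
def Apart (H K : Subgroup G) : Prop := ∀ x : G, ∀ y ∈ K, x * y * x⁻¹ ∈ H → y = 1

theorem classInner_apart (hd : Apart H K) (a : H →* ℂˣ) (b : K →* ℂˣ) :
    Cfsg.classInner (ind H 1 - ind H a) (ind K b) = 0 := by
  rw [ind, ind, ← indFun_sub, ind, classInner_indFun_right K _ (isClassFunction_indFun H _)]
  have : (fun h : K => Cfsg.indFun H (lin H 1 - lin H a) (h : G)) = 0 := by
    funext k
    by_cases hk : k = 1
    · subst hk; simp [indFun_one_apply, lin]
    · refine indFun_eq_zero_of_forall H _ fun x hx => hk (Subtype.ext ?_)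
      exact hd x⁻¹ k k.2 (by simpa using hx)
  rw [this]
  simp [Cfsg.classInner]

theorem sum_gam_coef (hd : Apart H K) (a : H →* ℂˣ) (b : K →* ℂˣ) :
    ∑ θ : Cfsg.IrrCharacter G, gam H a θ * coef K θ b = 0 := by
  have h := classInner_apart hd a b
  rw [gam_eq_sum, classInner_sum_left] at h
  simp only [classInner_smul_left] at h
  have e : ∀ θ : Cfsg.IrrCharacter G, Cfsg.classInner (θ : G → ℂ) (ind K b) = coef K θ b := by
    intro θ
    rw [← classInner_conj_symm, coef_spec, map_intCast]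
  simp only [e] at h
  exact_mod_cast h

theorem Exc.chi_ne_chi (E : Exc H) (F : Exc K) (hd : Apart H K) (o : Orb H) (p : Orb K) :
    E.chi o ≠ F.chi p := by
  intro h
  obtain ⟨a, ha⟩ := E.exists_other o.out
  obtain ⟨b, hb⟩ := F.exists_other p.out
  rw [orb_out] at ha hb
  have h0 : Cfsg.classInner (ind H o.out.1 - ind H a.1) (ind K p.out.1 - ind K b.1) = 0 := by
    have h1 := classInner_apart hd o.out.1
    have h2 := classInner_apart hd a.1
    rw [show ind H o.out.1 - ind H a.1 = (ind H 1 - ind H a.1) - (ind H 1 - ind H o.out.1) by abel,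
      classInner_sub_left, classInner_sub_right, classInner_sub_right, h1, h1, h2, h2]
    simp
  rw [E.diff, F.diff, classInner_smul_left, classInner_smul_right, classInner_diff, map_intCast] at h0
  have hs : ∀ s : ℤ, s * s = 1 → (s : ℂ) ≠ 0 := fun s hs h => by
    rw [Int.cast_eq_zero] at h; subst h; simp at hs
  rcases mul_eq_zero.mp h0 with h0 | h0
  · exact hs _ E.sgn_sq h0
  rcases mul_eq_zero.mp h0 with h0 | h0
  · exact hs _ F.sgn_sq h0
  rw [Int.cast_eq_zero, orb_out, orb_out, if_pos h] at h0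
  rw [if_neg (fun e : E.chi o = F.chi (orb b) => hb (F.inj (e.symm.trans h))),
    if_neg (fun e : E.chi (orb a) = F.chi p => ha (E.inj (e.trans h.symm)))] at h0
  split_ifs at h0 <;> norm_num at h0

theorem gam_const (F : Exc K) (hd : Apart H K) (a : H →* ℂˣ) (p q : Orb K) :
    gam H a (F.chi p) = gam H a (F.chi q) := by
  have h : Cfsg.classInner (ind H 1 - ind H a) (ind K p.out.1 - ind K q.out.1) = 0 := by
    rw [classInner_sub_right, classInner_apart hd, classInner_apart hd, sub_zero]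
  rw [F.diff, classInner_smul_right, classInner_sub_right, gam_spec, gam_spec, orb_out, orb_out,
    map_intCast] at h
  have h' : F.sgn * (gam H a (F.chi p) - gam H a (F.chi q)) = 0 := by exact_mod_cast h
  rcases mul_eq_zero.mp h' with h0 | h0
  · have := F.sgn_sq; rw [h0] at this; simp at this
  · linarith

/-- The parity argument. -/
theorem odd_coef (E : Exc H) (F : Exc K) (hd : Apart H K) (a : Nt H) (p : Orb K)
    (hy : Even (gam H a.1 (F.chi p))) (b : Nt K) :
    Odd (coef K (E.chi (orb a)) 1 - coef K (E.chi (orb a)) b.1) := by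
  let D : Cfsg.IrrCharacter G → ℤ := fun θ => coef K θ 1 - coef K θ b.1
  let f : Cfsg.IrrCharacter G → ZMod 2 := fun θ => ((gam H a.1 θ * D θ : ℤ) : ZMod 2)
  have hsum : ∑ θ, f θ = 0 := by
    have : ∑ θ, gam H a.1 θ * D θ = 0 := by
      simp only [D, mul_sub, Finset.sum_sub_distrib, sum_gam_coef hd, sub_zero]
    simp only [f, ← Int.cast_sum, this, Int.cast_zero]
  set EH := Finset.univ.image E.chi with hEH
  set EK := Finset.univ.image F.chi with hEK
  have hDe : ∀ o, D (E.chi o) = D (E.chi (orb a)) := by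
    intro o
    have h1 : ∀ c : K →* ℂˣ, coef K (E.chi o) c = coef K (E.chi (orb a)) c := by
      intro c
      have h := classInner_apart hd o.out.1 c
      have h2 := classInner_apart hd a.1 c
      have h3 : Cfsg.classInner (ind H o.out.1 - ind H a.1) (ind K c) = 0 := by
        rw [show ind H o.out.1 - ind H a.1 =
          (ind H 1 - ind H a.1) - (ind H 1 - ind H o.out.1) by abel, classInner_sub_left, h, h2,
          sub_zero]
      rw [E.diff, classInner_smul_left, classInner_sub_left, ← classInner_conj_symm (ind K c),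
        ← classInner_conj_symm (ind K c) (E.chi (orb a) : G → ℂ), coef_spec, coef_spec,
        map_intCast, map_intCast, orb_out] at h3
      have h' : E.sgn * (coef K (E.chi o) c - coef K (E.chi (orb a)) c) = 0 := by exact_mod_cast h3
      rcases mul_eq_zero.mp h' with h0 | h0
      · have := E.sgn_sq; rw [h0] at this; simp at this
      · linarith
    simp only [D, h1]
  have hrest : ∑ θ ∈ (((Finset.univ.erase (principal G)) \ EH) \ EK), f θ = 0 := by
    refine Finset.sum_involution (fun θ _ => RealChar.bar θ) ?_ ?_ ?_ (fun θ _ => bar_bar θ)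
    · intro θ hθ
      simp only [Finset.mem_sdiff, Finset.mem_erase, hEH, hEK, Finset.mem_image, Finset.mem_univ,
        true_and, and_true, not_exists] at hθ
      have e1 : gam H a.1 (RealChar.bar θ) = gam H a.1 θ := by
        rw [gam, gam, coef_bar, coef_bar, lin_inv_one,
          show coef H θ (a.1)⁻¹ = coef H θ a.1 from E.coef_eq_of_not_exc hθ.1.2 (Nt.inv a) a]
      have e2 : D (RealChar.bar θ) = D θ := by
        simp only [D, coef_bar, lin_inv_one,
          show coef K θ (b.1)⁻¹ = coef K θ b.1 from F.coef_eq_of_not_exc hθ.2 (Nt.inv b) b]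
      simp only [f, e1, e2]
      exact CharTwo.add_self_eq_zero _
    · intro θ hθ _ h
      simp only [Finset.mem_sdiff, Finset.mem_erase] at hθ
      exact hθ.1.1.1 (bar_eq_self E.ker.odd h)
    · intro θ hθ
      simp only [Finset.mem_sdiff, Finset.mem_erase, hEH, hEK, Finset.mem_image, Finset.mem_univ,
        true_and, and_true, not_exists] at hθ ⊢
      refine ⟨⟨fun h => hθ.1.1 ?_, E.bar_ne hθ.1.2⟩, F.bar_ne hθ.2⟩
      rw [← bar_bar θ, h, bar_principal]
  have hK0 : ∑ θ ∈ EK, f θ = 0 := by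
    refine Finset.sum_eq_zero fun θ hθ => ?_
    obtain ⟨q, -, rfl⟩ := Finset.mem_image.mp hθ
    simp only [f, gam_const F hd a.1 q p]
    push_cast
    rw [(ZMod.intCast_eq_zero_iff_even).mpr hy, zero_mul]
  have hH0 : ∑ θ ∈ EH, f θ = (D (E.chi (orb a)) : ZMod 2) := by
    rw [hEH, Finset.sum_image fun _ _ _ _ e => E.inj e]
    simp only [f, hDe, Int.cast_mul, ← Finset.sum_mul, ← Int.cast_sum]
    have hs : ∑ o, gam H a.1 (E.chi o) = (nOrb H : ℤ) * gam H a.1 (E.chi (orb a)) +
        E.sgn * ((nOrb H : ℤ) - 1) := by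
      have : ∀ o, gam H a.1 (E.chi o) = gam H a.1 (E.chi (orb a)) +
          E.sgn * if o = orb a then 0 else 1 := by
        intro o
        have := E.gam_chi a o.out
        rw [orb_out] at this
        linarith
      rw [Finset.sum_congr rfl fun o _ => this o, Finset.sum_add_distrib, ← Finset.mul_sum]
      simp [Finset.sum_ite, nOrb, Finset.filter_ne']
      left
      have := Fintype.card_pos_iff.mpr ⟨orb a⟩
      omega
    have hodd : Odd (∑ o, gam H a.1 (E.chi o)) := by
      rw [hs]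
      have hw : Even (nOrb H : ℤ) := by exact_mod_cast even_nOrb E.ker
      refine Even.add_odd (hw.mul_right _) (Odd.mul ?_ (hw.sub_odd odd_one))
      exact Int.Odd.of_mul_left (n := E.sgn) (by rw [E.sgn_sq]; exact odd_one)
    rw [(ZMod.intCast_eq_one_iff_odd).mpr hodd, one_mul]
  have hD1 : f (principal G) = 1 := by
    simp only [f, D, gam_principal, coef_principal, if_neg b.2]
    simp
  have hdisj : Disjoint EH EK := by
    rw [Finset.disjoint_left]
    intro θ h1 h2
    obtain ⟨o, -, rfl⟩ := Finset.mem_image.mp h1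
    obtain ⟨q, -, e⟩ := Finset.mem_image.mp h2
    exact E.chi_ne_chi F hd o q e.symm
  have hsub : EH ∪ EK ⊆ Finset.univ.erase (principal G) := by
    intro θ h
    rcases Finset.mem_union.mp h with h | h <;> obtain ⟨o, -, rfl⟩ := Finset.mem_image.mp h <;>
      refine Finset.mem_erase.mpr ⟨?_, Finset.mem_univ _⟩
    · exact E.chi_ne_principal o
    · exact F.chi_ne_principal o
  rw [← Finset.add_sum_erase _ _ (Finset.mem_univ (principal G)), hD1, ← Finset.sum_sdiff hsub,
    Finset.sdiff_union_distrib, ← Finset.sdiff_sdiff_left', Finset.sum_union hdisj, hrest, hH0,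
    hK0, add_zero, zero_add] at hsum
  rw [← ZMod.intCast_eq_one_iff_odd]
  show (D (E.chi (orb a)) : ZMod 2) = 1
  calc (D (E.chi (orb a)) : ZMod 2) = 1 + ((D (E.chi (orb a)) : ZMod 2)) + 1 := by
        rw [add_comm (1 : ZMod 2), add_assoc, CharTwo.add_self_eq_zero, add_zero]
    _ = 1 := by rw [hsum, zero_add]

end Cfsg.Agent.Char.FHT
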