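import Cfsg.Agent.Lib.Char.Isometry
import Cfsg.Agent.Lib.Char.RealClasses
import Cfsg.Prelude.Def_OddOrderLocal

/-!
# Linear characters of a TI Frobenius kernel and their exceptional characters

`H` is a TI subgroup of the odd order group `G` containing the centralisers of its non-identity
elements. The orbits of the normaliser on nontrivial linear characters of `H` give a family of
exceptional irreducible characters of `G`.
-/

set_option linter.style.haveILetI false
set_option linter.unusedSectionVars false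
set_option autoImplicit false

namespace Cfsg.Agent.Char.FHT

open scoped ComplexConjugate Classical
open Cfsg

universe u

variable {G : Type u} [Group G] [Fintype G]

/-- The hypotheses on the subgroup. -/
structure Ker (H : Subgroup G) : Prop where
  odd : Odd (Nat.card G)
  ti : Cfsg.IsTISubset (H : Set G)
  cent : ∀ h ∈ H, h ≠ 1 → Subgroup.centralizer ({h} : Set G) ≤ H
  proper : H < Subgroup.normalizer (H : Set G)
  lin_ne : ∃ a : H →* ℂˣ, a ≠ 1

variable (H : Subgroup G)

local notation "Nrm" => Subgroup.normalizer (H : Set G)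

/-- The linear character as a complex function. -/
def lin (a : H →* ℂˣ) : H → ℂ := fun h => (a h : ℂ)

theorem lin_one : lin H 1 = fun _ => (1 : ℂ) := by funext h; simp [lin]

theorem lin_inj {a b : H →* ℂˣ} (h : lin H a = lin H b) : a = b :=
  MonoidHom.ext fun x => Units.ext (congrFun h x)

theorem lin_irr (a : H →* ℂˣ) : Cfsg.IsIrrCharacter H (lin H a) := isIrrCharacter_linear a

instance finite_lin : Finite (H →* ℂˣ) :=
  Finite.of_injective (fun a => (⟨lin H a, lin_irr H a⟩ : Cfsg.IrrCharacter H))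
    (fun _ _ e => lin_inj H (congrArg Subtype.val e))

theorem classInner_lin [Fintype H] (a b : H →* ℂˣ) :
    Cfsg.classInner (lin H a) (lin H b) = if a = b then 1 else 0 := by
  rw [classInner_irr (lin_irr H a) (lin_irr H b)]
  exact if_congr ⟨lin_inj H, fun h => h ▸ rfl⟩ rfl rfl

theorem card_lin_dvd : Nat.card (H →* ℂˣ) ∣ Nat.card H := by
  rw [Nat.card_congr Abelianization.lift]
  haveI : Finite (Abelianization H) := inferInstanceAs (Finite (H ⧸ commutator H))
  haveI : NeZero (Monoid.exponent (Abelianization H) : ℂ) :=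
    ⟨Nat.cast_ne_zero.mpr Monoid.exponent_ne_zero_of_finite⟩
  rw [CommGroup.card_monoidHom_of_hasEnoughRootsOfUnity]
  exact Subgroup.card_quotient_dvd_card _

/-- Conjugation by an element of the normaliser. -/
def conjIn (x : Nrm) : H →* H where
  toFun h := ⟨x * h * (x : G)⁻¹, ((Subgroup.mem_normalizer_iff.mp x.2) _).mp h.2⟩
  map_one' := by apply Subtype.ext; simp
  map_mul' a b := by apply Subtype.ext; simp [mul_assoc]

theorem coe_conjIn (x : Nrm) (h : H) : (conjIn H x h : G) = x * h * (x : G)⁻¹ := rfl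

/-- The action on linear characters. -/
def twist (x : Nrm) (a : H →* ℂˣ) : H →* ℂˣ := a.comp (conjIn H x)

theorem twist_mul (x y : Nrm) (a : H →* ℂˣ) : twist H (x * y) a = twist H y (twist H x a) := by
  refine MonoidHom.ext fun h => congrArg a (Subtype.ext ?_)
  simp [coe_conjIn, mul_assoc]

theorem twist_one (a : H →* ℂˣ) : twist H 1 a = a := by
  refine MonoidHom.ext fun h => congrArg a (Subtype.ext ?_)
  simp [coe_conjIn]

theorem twist_trivial (x : Nrm) : twist H x 1 = 1 := MonoidHom.one_comp _

theorem twist_ne_one (x : Nrm) {a : H →* ℂˣ} (ha : a ≠ 1) : twist H x a ≠ 1 := by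
  intro h
  apply ha
  have := congrArg (twist H x⁻¹) h
  rwa [← twist_mul, mul_inv_cancel, twist_one, twist_trivial] at this

theorem twist_of_mem {x : Nrm} (hx : (x : G) ∈ H) (a : H →* ℂˣ) : twist H x a = a := by
  refine MonoidHom.ext fun h => ?_
  have : conjIn H x h = ⟨x, hx⟩ * h * (⟨x, hx⟩ : H)⁻¹ := Subtype.ext rfl
  show a (conjIn H x h) = a h
  rw [this, map_mul, map_mul, map_inv, mul_comm (a ⟨x, hx⟩), mul_inv_cancel_right]

variable {H}

theorem twist_eq_self (hK : Ker H) {a : H →* ℂˣ} (ha : a ≠ 1) {x : Nrm} (h : twist H x a = a) :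
    (x : G) ∈ H := by
  by_contra hx
  have hinj : Function.Injective (fun y : H => conjIn H x y * y⁻¹) := by
    intro y z hyz
    by_contra hne
    apply hx
    have h1 : conjIn H x (z⁻¹ * y) = z⁻¹ * y := by
      have h2 : conjIn H x y * y⁻¹ = conjIn H x z * z⁻¹ := hyz
      have h3 : conjIn H x y = conjIn H x z * z⁻¹ * y := by rw [← h2, inv_mul_cancel_right]
      rw [map_mul, map_inv, h3]
      group
    refine hK.cent _ (z⁻¹ * y).2 (fun e => hne ?_) ?_
    · exact (inv_mul_eq_one.mp (Subtype.ext e)).symm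
    · rw [Subgroup.mem_centralizer_singleton_iff]
      have h3 := congrArg Subtype.val h1
      rw [coe_conjIn, mul_inv_eq_iff_eq_mul] at h3
      exact h3
  apply ha
  refine MonoidHom.ext fun z => ?_
  obtain ⟨y, hy⟩ := (Finite.injective_iff_surjective.mp hinj) z
  rw [← hy, map_mul, map_inv]
  have : a (conjIn H x y) = a y := DFunLike.congr_fun h y
  rw [this, mul_inv_cancel, MonoidHom.one_apply]

/-- Orbit relation. -/
def Rel (a b : H →* ℂˣ) : Prop := ∃ x : Subgroup.normalizer (H : Set G), twist H x a = b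

theorem rel_equiv : Equivalence (Rel (H := H)) where
  refl a := ⟨1, twist_one H a⟩
  symm := by
    rintro a b ⟨x, rfl⟩
    exact ⟨x⁻¹, by rw [← twist_mul, mul_inv_cancel, twist_one]⟩
  trans := by
    rintro a b c ⟨x, rfl⟩ ⟨y, rfl⟩
    exact ⟨x * y, twist_mul H x y a⟩

variable (H) in
/-- The index of `H` in its normaliser. -/
noncomputable def idx : ℕ := (H.subgroupOf (Subgroup.normalizer (H : Set G))).index

theorem card_subgroupOf :
    Nat.card (H.subgroupOf (Subgroup.normalizer (H : Set G))) = Nat.card H :=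
  Nat.card_congr (Subgroup.subgroupOfEquivOfLe Subgroup.le_normalizer).toEquiv

theorem idx_mul : Nat.card H * idx H = Nat.card (Subgroup.normalizer (H : Set G)) := by
  rw [← card_subgroupOf, idx, Subgroup.card_mul_index]

theorem idx_pos : 0 < idx H := Nat.pos_of_ne_zero Subgroup.index_ne_zero_of_finite

theorem idx_odd (hK : Ker H) : Odd (idx H) :=
  hK.odd.of_dvd_nat ((Subgroup.index_dvd_card _).trans (Subgroup.card_subgroup_dvd_card _))

theorem three_le_idx (hK : Ker H) : 3 ≤ idx H := by
  rcases idx_odd hK with ⟨k, hk⟩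
  have : idx H ≠ 1 := by
    intro h
    rw [idx, Subgroup.index_eq_one, Subgroup.subgroupOf_eq_top] at h
    exact absurd (le_antisymm hK.proper.le h) hK.proper.ne
  omega

theorem card_fibre (hK : Ker H) {a b : H →* ℂˣ} (ha : a ≠ 1) (hR : Rel a b) :
    (Finset.univ.filter fun x : Subgroup.normalizer (H : Set G) => twist H x a = b).card =
      Nat.card H := by
  obtain ⟨x₀, rfl⟩ := hR
  rw [← Fintype.card_subtype, ← Nat.card_eq_fintype_card]
  have key : ∀ x : Subgroup.normalizer (H : Set G),
      twist H x a = twist H x₀ a ↔ (x : G) * (x₀ : G)⁻¹ ∈ H := by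
    intro x
    refine ⟨fun h => ?_, fun h => ?_⟩
    · refine twist_eq_self hK ha (x := x * x₀⁻¹) ?_
      rw [twist_mul, h, ← twist_mul, mul_inv_cancel, twist_one]
    · calc twist H x a = twist H (x * x₀⁻¹ * x₀) a := by rw [inv_mul_cancel_right]
        _ = _ := by rw [twist_mul, twist_of_mem H (x := x * x₀⁻¹) h]
  refine Nat.card_congr
    { toFun := fun x => ⟨(x.1 : G) * (x₀ : G)⁻¹, (key x.1).mp x.2⟩
      invFun := fun h => ⟨⟨(h : G) * x₀, mul_mem (Subgroup.le_normalizer h.2) x₀.2⟩,
        (key _).mpr (by simp)⟩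
      left_inv := fun x => by simp
      right_inv := fun h => by simp }

theorem card_orbit (hK : Ker H) {a : H →* ℂˣ} (ha : a ≠ 1) :
    Nat.card {b : H →* ℂˣ // Rel a b} = idx H := by
  haveI : Fintype (H →* ℂˣ) := Fintype.ofFinite _
  have h1 : Nat.card (Subgroup.normalizer (H : Set G)) =
      ∑ b ∈ Finset.univ.filter (fun b => Rel a b),
        (Finset.univ.filter fun x : Subgroup.normalizer (H : Set G) => twist H x a = b).card := by
    rw [Nat.card_eq_fintype_card, ← Finset.card_univ]
    exact Finset.card_eq_sum_card_fiberwise fun x _ =>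
      Finset.mem_filter.mpr ⟨Finset.mem_univ _, x, rfl⟩
  rw [Finset.sum_congr rfl fun b hb => card_fibre hK ha (Finset.mem_filter.mp hb).2,
    Finset.sum_const, smul_eq_mul, ← idx_mul, mul_comm] at h1
  rw [Nat.card_eq_fintype_card, Fintype.card_subtype]
  exact (Nat.eq_of_mul_eq_mul_right Nat.card_pos h1).symm

variable (H) in
/-- The character of `G` induced from a linear character. -/
noncomputable def ind (a : H →* ℂˣ) : G → ℂ := Cfsg.indFun H (lin H a)

theorem ind_gen (a : H →* ℂˣ) : Cfsg.IsGeneralizedCharacter G (ind H a) :=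
  IsGeneralizedCharacter.of_isCharacter
    (isCharacter_indFun H (IsIrrCharacter.isCharacter (lin_irr H a)))

theorem ind_twist (x : Subgroup.normalizer (H : Set G)) (a : H →* ℂˣ) :
    ind H (twist H x a) = ind H a := by
  funext g
  simp only [ind, indFun_apply]
  congr 1
  refine Fintype.sum_equiv (Equiv.mulRight (x : G)⁻¹) _ _ fun y => ?_
  have e : (y * (x : G)⁻¹)⁻¹ * g * (y * (x : G)⁻¹) = x * (y⁻¹ * g * y) * (x : G)⁻¹ := by group
  simp only [Equiv.coe_mulRight, e]
  by_cases hm : y⁻¹ * g * y ∈ H
  · rw [extendByZero_mem _ _ hm,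
      extendByZero_mem _ _ (((Subgroup.mem_normalizer_iff.mp x.2) _).mp hm)]
    rfl
  · rw [extendByZero_not_mem _ _ hm,
      extendByZero_not_mem _ _ (fun h => hm (((Subgroup.mem_normalizer_iff.mp x.2) _).mpr h))]

theorem ind_rel {a b : H →* ℂˣ} (h : Rel a b) : ind H a = ind H b := by
  obtain ⟨x, rfl⟩ := h
  rw [ind_twist]

/-- Restriction to `H` of a function induced from one vanishing at `1`. -/
theorem indFun_apply_coe (hK : Ker H) {f : H → ℂ} (hf : f 1 = 0) (h : H) :
    Cfsg.indFun H f (h : G) =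
      (Nat.card H : ℂ)⁻¹ * ∑ x : Subgroup.normalizer (H : Set G), f (conjIn H x h) := by
  by_cases h1 : h = 1
  · subst h1; simp [indFun_one_apply, hf]
  rw [indFun_apply]
  congr 1
  rw [Fintype.sum_equiv (Equiv.inv G) (fun x => Cfsg.extendByZero H f (x⁻¹ * h * x))
    (fun x => Cfsg.extendByZero H f (x * h * x⁻¹)) (fun x => by simp),
    ← Finset.sum_subset (Finset.subset_univ
      (Finset.univ.filter fun x : G => x ∈ Subgroup.normalizer (H : Set G))),
    Finset.sum_subtype (Finset.univ.filter fun x : G => x ∈ Subgroup.normalizer (H : Set G))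
      (p := fun x => x ∈ Subgroup.normalizer (H : Set G)) (fun x => by simp)]
  · refine Finset.sum_congr rfl fun x _ => ?_
    exact extendByZero_coe H f (conjIn H x h)
  · intro x _ hx
    refine extendByZero_not_mem _ _ fun hm => h1 (Subtype.ext ?_)
    exact hK.ti x (fun h => hx (by simp [h])) h h.2 hm

theorem classInner_ind_sub (hK : Ker H) {a b : H →* ℂˣ} (ha : a ≠ 1) (hb : b ≠ 1) :
    Cfsg.classInner (ind H 1 - ind H a) (ind H 1 - ind H b) =
      (idx H : ℂ) + if Rel b a then 1 else 0 := by
  haveI : Fintype H := Fintype.ofFinite _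
  rw [ind, ind, ← indFun_sub, ind, ← indFun_sub,
    classInner_indFun_left H _ (isClassFunction_indFun H _)]
  have hres : (fun h : H => Cfsg.indFun H (lin H 1 - lin H b) (h : G)) =
      (Nat.card H : ℂ)⁻¹ • ∑ x : Subgroup.normalizer (H : Set G),
        (lin H 1 - lin H (twist H x b)) := by
    funext h
    rw [indFun_apply_coe hK (by simp [lin]), Pi.smul_apply, Finset.sum_apply, smul_eq_mul]
    congr 1
  rw [hres, classInner_smul_right, classInner_sum_right]
  have hval : ∀ x : Subgroup.normalizer (H : Set G),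
      Cfsg.classInner (lin H 1 - lin H a) (lin H 1 - lin H (twist H x b)) =
        1 + if twist H x b = a then 1 else 0 := by
    intro x
    simp only [classInner_sub_left, classInner_sub_right, classInner_lin, if_true,
      if_neg ha, if_neg (twist_ne_one H x hb).symm]
    rw [if_congr (eq_comm (a := a)) rfl rfl]
    ring
  rw [Finset.sum_congr rfl fun x _ => hval x, Finset.sum_add_distrib, Finset.sum_const,
    Finset.card_univ, ← Nat.card_eq_fintype_card, nsmul_one, Finset.sum_boole]
  have hH : (Nat.card H : ℂ) ≠ 0 := Nat.cast_ne_zero.mpr Nat.card_pos.ne'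
  simp only [map_inv₀, map_natCast]
  by_cases hR : Rel b a
  · rw [if_pos hR, ← idx_mul, Nat.cast_mul]
    have hc := card_fibre hK hb hR
    rw [show ((Finset.univ.filter fun x : Subgroup.normalizer (H : Set G) =>
      twist H x b = a).card : ℂ) = (Nat.card H : ℂ) from by convert congrArg (Nat.cast (R := ℂ)) hc]
    field_simp
  · rw [if_neg hR, ← idx_mul, Nat.cast_mul,
      Finset.filter_false_of_mem (fun x _ hx => hR ⟨x, hx⟩), Finset.card_empty, Nat.cast_zero,
      add_zero, add_zero]
    field_simp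

theorem classInner_ind_principal (a : H →* ℂˣ) :
    Cfsg.classInner (ind H a) (fun _ => (1 : ℂ)) = if a = 1 then 1 else 0 := by
  haveI : Fintype H := Fintype.ofFinite _
  rw [ind, classInner_indFun_left H _ (fun _ _ => rfl), ← lin_one H, classInner_lin]
  by_cases h : a = 1 <;> simp [h]

/-- Nontrivial linear characters. -/
abbrev Nt (H : Subgroup G) : Type u := {a : H →* ℂˣ // a ≠ 1}

instance ntSetoid (H : Subgroup G) : Setoid (Nt H) :=
  ⟨fun a b => Rel a.1 b.1, fun a => rel_equiv.refl a.1, fun h => rel_equiv.symm h,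
    fun h k => rel_equiv.trans h k⟩

/-- Orbits on nontrivial linear characters. -/
abbrev Orb (H : Subgroup G) : Type u := Quotient (ntSetoid H)

noncomputable instance : Fintype (Nt H) := Fintype.ofFinite _
noncomputable instance : Fintype (Orb H) := Fintype.ofFinite _

/-- The orbit of a nontrivial linear character. -/
def orb (a : Nt H) : Orb H := Quotient.mk _ a

theorem orb_eq_iff {a b : Nt H} : orb a = orb b ↔ Rel a.1 b.1 := Quotient.eq

theorem orb_out (o : Orb H) : orb o.out = o := Quotient.out_eq o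

variable (H) in
/-- The number of orbits. -/
noncomputable def nOrb : ℕ := Fintype.card (Orb H)

theorem card_orb_fibre (hK : Ker H) (o : Orb H) :
    (Finset.univ.filter fun a : Nt H => orb a = o).card = idx H := by
  rw [← orb_out o, ← card_orbit hK o.out.2, ← Fintype.card_subtype,
    ← Nat.card_eq_fintype_card]
  refine Nat.card_congr
    { toFun := fun a => ⟨a.1.1, rel_equiv.symm (orb_eq_iff.mp a.2)⟩
      invFun := fun b => ⟨⟨b.1, ?_⟩, orb_eq_iff.mpr (rel_equiv.symm b.2)⟩
      left_inv := fun a => rfl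
      right_inv := fun b => rfl }
  intro h
  obtain ⟨x, hx⟩ := b.2
  exact twist_ne_one H x o.out.2 (hx.trans h)

theorem card_nt (hK : Ker H) : Fintype.card (Nt H) = idx H * nOrb H := by
  rw [← Finset.card_univ, Finset.card_eq_sum_card_fiberwise (f := orb) (t := Finset.univ)
    (fun _ _ => Finset.mem_univ _), Finset.sum_congr rfl fun o _ => card_orb_fibre hK o,
    Finset.sum_const, Finset.card_univ, smul_eq_mul, nOrb, mul_comm]

theorem sum_lin {M : Type*} [AddCommMonoid M] [Fintype (H →* ℂˣ)] (F : (H →* ℂˣ) → M) :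
    ∑ a, F a = F 1 + ∑ a : Nt H, F a.1 := by
  rw [← Finset.add_sum_erase _ _ (Finset.mem_univ 1)]
  congr 1
  exact Finset.sum_subtype _ (fun a => by simp) _

theorem card_lin (hK : Ker H) : Nat.card (H →* ℂˣ) = idx H * nOrb H + 1 := by
  haveI : Fintype (H →* ℂˣ) := Fintype.ofFinite _
  rw [← card_nt hK, Nat.card_eq_fintype_card, ← Finset.card_univ, Finset.card_eq_sum_ones,
    sum_lin, ← Finset.card_eq_sum_ones, Finset.card_univ, add_comm]

theorem card_lin_odd (hK : Ker H) : Odd (Nat.card (H →* ℂˣ)) :=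
  hK.odd.of_dvd_nat ((card_lin_dvd H).trans (Subgroup.card_subgroup_dvd_card H))

theorem even_nOrb (hK : Ker H) : Even (nOrb H) := by
  have h := card_lin_odd hK
  rw [card_lin hK, Nat.odd_add_one, Nat.not_odd_iff_even, Nat.even_mul] at h
  exact h.resolve_left (Nat.not_even_iff_odd.mpr (idx_odd hK))

theorem two_le_nOrb (hK : Ker H) : 2 ≤ nOrb H := by
  obtain ⟨a, ha⟩ := hK.lin_ne
  have : 0 < nOrb H := Fintype.card_pos_iff.mpr ⟨orb ⟨a, ha⟩⟩
  obtain ⟨k, hk⟩ := even_nOrb hK
  omega

/-- A family of exceptional characters of `H`. -/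
structure Exc (H : Subgroup G) where
  ker : Ker H
  sgn : ℤ
  sgn_sq : sgn * sgn = 1
  chi : Orb H → Cfsg.IrrCharacter G
  inj : Function.Injective chi
  diff : ∀ a b : Nt H, ind H a.1 - ind H b.1 =
    (sgn : ℂ) • ((chi (orb a) : G → ℂ) - (chi (orb b) : G → ℂ))

theorem exists_exc (hK : Ker H) : Nonempty (Exc H) := by
  obtain ⟨a₁, ha₁⟩ := hK.lin_ne
  set o₀ := orb (⟨a₁, ha₁⟩ : Nt H)
  have hind : ∀ a : Nt H, ind H a.1 = ind H (orb a).out.1 := fun a =>
    ind_rel (orb_eq_iff.mp (orb_out (orb a)).symm)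
  obtain ⟨ε, hε, μ, hμ, hinj, hdiff⟩ := isometry_lemma o₀
    (fun o => ind H o.out.1 - ind H o₀.out.1) (sub_self _)
    (fun o => IsGeneralizedCharacter.sub (ind_gen _) (ind_gen _))
    (fun o => by simp [ind, indFun_one_apply, lin])
    (fun i j hi hj => by
      have e : ∀ i : Orb H, ind H i.out.1 - ind H o₀.out.1 =
          (ind H 1 - ind H o₀.out.1) - (ind H 1 - ind H i.out.1) := fun i => by abel
      have hrel : ∀ i j : Orb H, Rel i.out.1 j.out.1 ↔ i = j := fun i j =>
        ⟨fun h => by simpa only [orb_out] using orb_eq_iff.mpr h,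
          fun h => h ▸ rel_equiv.refl _⟩
      rw [e, e, classInner_sub_left, classInner_sub_right (ind H 1 - ind H o₀.out.1),
        classInner_sub_right (ind H 1 - ind H i.out.1),
        classInner_ind_sub hK o₀.out.2 o₀.out.2, classInner_ind_sub hK o₀.out.2 j.out.2,
        classInner_ind_sub hK i.out.2 o₀.out.2, classInner_ind_sub hK i.out.2 j.out.2]
      simp only [hrel, if_true, if_neg hj, if_neg hi.symm]
      rw [if_congr (eq_comm (a := j)) rfl rfl]
      split_ifs <;> ring)
  obtain ⟨s, hs, rfl⟩ : ∃ s : ℤ, s * s = 1 ∧ ε = (s : ℂ) := by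
    rcases hε with rfl | rfl
    · exact ⟨1, rfl, by simp⟩
    · exact ⟨-1, rfl, by simp⟩
  refine ⟨⟨hK, s, hs, fun o => ⟨μ o, hμ o⟩, fun i j h => hinj (congrArg Subtype.val h),
    fun a b => ?_⟩⟩
  have e : ind H a.1 - ind H b.1 = (ind H (orb a).out.1 - ind H o₀.out.1) -
      (ind H (orb b).out.1 - ind H o₀.out.1) := by
    rw [hind a, hind b]; abel
  rw [e, hdiff, hdiff, ← smul_sub]
  congr 1
  abel

theorem exists_coef (θ : Cfsg.IrrCharacter G) (a : H →* ℂˣ) :
    ∃ n : ℤ, Cfsg.classInner (ind H a) θ = n :=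
  IsGeneralizedCharacter.exists_classInner_int (ind_gen a)
    (IsGeneralizedCharacter.of_isCharacter (IsIrrCharacter.isCharacter θ.2))

variable (H) in
/-- The multiplicity of a linear character in the restriction of `θ` to `H`. -/
noncomputable def coef (θ : Cfsg.IrrCharacter G) (a : H →* ℂˣ) : ℤ :=
  Classical.choose (exists_coef θ a)

theorem coef_spec (θ : Cfsg.IrrCharacter G) (a : H →* ℂˣ) :
    Cfsg.classInner (ind H a) θ = coef H θ a :=
  Classical.choose_spec (exists_coef θ a)

theorem Exc.coef_sub (E : Exc H) (θ : Cfsg.IrrCharacter G) (a b : Nt H) :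
    coef H θ a.1 - coef H θ b.1 =
      E.sgn * ((if E.chi (orb a) = θ then 1 else 0) - if E.chi (orb b) = θ then 1 else 0) := by
  have h := congrArg (fun f => Cfsg.classInner f (θ : G → ℂ)) (E.diff a b)
  simp only [classInner_sub_left, classInner_smul_left, coef_spec,
    classInner_irr (E.chi _).2 θ.2, Subtype.coe_inj] at h
  exact_mod_cast h

theorem Exc.coef_eq_of_not_exc (E : Exc H) {θ : Cfsg.IrrCharacter G} (h : ∀ o, E.chi o ≠ θ)
    (a b : Nt H) : coef H θ a.1 = coef H θ b.1 := by
  have := E.coef_sub θ a b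
  rw [if_neg (h _), if_neg (h _)] at this
  linarith

theorem coef_principal (a : H →* ℂˣ) : coef H (principal G) a = if a = 1 then 1 else 0 := by
  have h := coef_spec (principal G) a
  rw [show ((principal G : Cfsg.IrrCharacter G) : G → ℂ) = fun _ => (1 : ℂ) from rfl,
    classInner_ind_principal] at h
  exact_mod_cast h.symm

theorem Exc.exists_other (E : Exc H) (a : Nt H) : ∃ b : Nt H, orb b ≠ orb a := by
  obtain ⟨o, ho⟩ := Fintype.exists_ne_of_one_lt_card
    (show 1 < Fintype.card (Orb H) from two_le_nOrb E.ker) (orb a)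
  exact ⟨o.out, by rwa [orb_out]⟩

theorem Exc.chi_ne_principal (E : Exc H) (o : Orb H) : E.chi o ≠ principal G := by
  intro h
  obtain ⟨b, hb⟩ := E.exists_other o.out
  have := E.coef_sub (principal G) o.out b
  rw [coef_principal, coef_principal, if_neg o.out.2, if_neg b.2, orb_out, if_pos h,
    if_neg (fun e => hb (by rw [orb_out]; exact E.inj (e.trans h.symm)))] at this
  have h' := E.sgn_sq
  rw [show E.sgn = 0 by linarith] at h'
  simp at h'

end Cfsg.Agent.Char.FHT
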